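import Mathlib

/-!
Conjugation invariant sets of involutions in which the product of two non-commuting members
always has order `p`, for a fixed odd prime `p`.

Owner: helper22.
-/

set_option autoImplicit false

namespace Cfsg.Agent.Lib.RankThreeInv22

variable {G : Type*} [Group G] {p : ℕ} {D : Set G} {a b c d x y z : G}

/-- The hypothesis: involutions, closed under conjugation, products of non-commuting members of
order `p ≥ 5`. -/
structure Hyp (p : ℕ) (D : Set G) : Prop where
  prime : p.Prime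
  five : 5 ≤ p
  sq : ∀ d ∈ D, d * d = 1
  ne : ∀ d ∈ D, d ≠ 1
  conj : ∀ g : G, ∀ d ∈ D, g * d * g⁻¹ ∈ D
  pair : ∀ a ∈ D, ∀ b ∈ D, ¬ Commute a b → orderOf (a * b) = p

theorem mul_inv_rev_inv (ha : a * a = 1) (hb : b * b = 1) : (a * b)⁻¹ = b * a := by
  rw [mul_inv_rev, inv_eq_of_mul_eq_one_right ha, inv_eq_of_mul_eq_one_right hb]

theorem commute_iff_sq (ha : a * a = 1) (hb : b * b = 1) : Commute a b ↔ (a * b) ^ 2 = 1 := by
  constructor
  · intro h
    rw [h.mul_pow, pow_two, pow_two, ha, hb, one_mul]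
  · intro h
    have h1 : (a * b)⁻¹ = a * b := inv_eq_of_mul_eq_one_right (by rw [← pow_two]; exact h)
    rw [mul_inv_rev_inv ha hb] at h1
    exact h1.symm

theorem Hyp.odd (h : Hyp p D) : Odd p := h.prime.odd_of_ne_two (by have := h.five; omega)

theorem Hyp.inv (h : Hyp p D) (ha : a ∈ D) : a⁻¹ = a := inv_eq_of_mul_eq_one_right (h.sq a ha)

theorem Hyp.cancel (h : Hyp p D) (ha : a ∈ D) (x : G) : a * (a * x) = x := by
  rw [← mul_assoc, h.sq a ha, one_mul]

theorem Hyp.cancel' (h : Hyp p D) (ha : a ∈ D) (x : G) : x * a * a = x := by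
  rw [mul_assoc, h.sq a ha, mul_one]

theorem Hyp.conj_self (h : Hyp p D) (ha : a ∈ D) (hb : b ∈ D) : a * b * a ∈ D := by
  have := h.conj a b hb
  rwa [h.inv ha] at this

/-- Powers of a product of order `p` that are trivial. -/
theorem Hyp.dvd_of_pow (h : Hyp p D) (ha : a ∈ D) (hb : b ∈ D) (hab : ¬ Commute a b) {k : ℕ}
    (hk : (a * b) ^ k = 1) : p ∣ k := h.pair a ha b hb hab ▸ orderOf_dvd_of_pow_eq_one hk

theorem Hyp.commute_of_pow_four (h : Hyp p D) (ha : a ∈ D) (hb : b ∈ D)
    (hk : (a * b) ^ 4 = 1) : Commute a b := by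
  by_contra hab
  have := Nat.le_of_dvd (by norm_num) (h.dvd_of_pow ha hb hab hk)
  have := h.five
  have h5 : p ≠ 4 := fun e => by have := h.prime; rw [e] at this; norm_num at this
  omega

/-- A member commuting with `b * a * b` commutes with `b`. -/
theorem Hyp.commute_of_commute_conj (h : Hyp p D) (ha : a ∈ D) (hb : b ∈ D)
    (hc : Commute a (b * a * b)) : Commute a b := by
  refine h.commute_of_pow_four ha hb ?_
  have h2 := (commute_iff_sq (h.sq a ha) (h.sq _ (h.conj_self hb ha))).1 hc
  rw [show (a * b) ^ 4 = (a * (b * a * b)) ^ 2 by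
    rw [show (4 : ℕ) = 2 * 2 from rfl, pow_mul, pow_two (a * b)]; simp only [mul_assoc]]
  exact h2

/-- If the product of two commuting members fixes a member, both factors do. -/
theorem Hyp.fix (h : Hyp p D) (ha : a ∈ D) (hc : c ∈ D) (hb : b ∈ D) (hac : Commute a c)
    (hne : a ≠ c) (hfix : Commute (a * c) b) : Commute a b ∧ Commute c b := by
  have h1 : a * b * a = c * b * c := by
    have h2 : a * (c * b) = b * (c * a) := by
      rw [← mul_assoc, hfix.eq, hac.eq]
    calc a * b * a = a * (c * (c * b)) * a := by rw [h.cancel hc]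
      _ = c * (a * (c * b)) * a := by
          rw [← mul_assoc a c, hac.eq, mul_assoc c a]
      _ = c * b * c * (a * a) := by rw [h2]; simp only [mul_assoc]
      _ = c * b * c := by rw [h.sq a ha, mul_one]
  by_cases hab : Commute a b
  · refine ⟨hab, ?_⟩
    have h3 : c * b * c = b := by rw [← h1, hab.eq, h.cancel' ha]
    show c * b = b * c
    calc c * b = c * b * c * c := (h.cancel' hc _).symm
      _ = b * c := by rw [h3]
  · exfalso
    have hcb : ¬ Commute c b := fun hcb => hab (by
      show a * b = b * a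
      have h3 : a * b * a = b := by rw [h1, hcb.eq, h.cancel' hc]
      calc a * b = a * b * a * a := (h.cancel' ha _).symm
        _ = b * a := by rw [h3])
    have e1 := h.pair b hb a ha (fun e => hab e.symm)
    have e2 := h.pair b hb c hc (fun e => hcb e.symm)
    have h4 : (b * a) ^ 2 = (b * c) ^ 2 := by
      rw [pow_two, pow_two]
      calc b * a * (b * a) = b * (a * b * a) := by simp only [mul_assoc]
        _ = b * c * (b * c) := by rw [h1]; simp only [mul_assoc]
    obtain ⟨j, hj⟩ := h.odd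
    have h5 : ∀ g : G, orderOf g = p → (g ^ 2) ^ (j + 1) = g := fun g hg => by
      rw [← pow_mul, show 2 * (j + 1) = orderOf g + 1 by omega, pow_succ, pow_orderOf_eq_one,
        one_mul]
    have h6 : b * a = b * c := by rw [← h5 _ e1, h4, h5 _ e2]
    exact hne (mul_left_cancel h6)

/-- For `p` odd every power of `a * b` conjugates `a` to a member `(a * b) ^ i * a`. -/
theorem Hyp.pow_mul_mem (h : Hyp p D) (ha : a ∈ D) (hb : b ∈ D) (hab : ¬ Commute a b) (i : ℕ) :
    (a * b) ^ i * a ∈ D := by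
  obtain ⟨j, hj⟩ : ∃ j, 2 * j % p = i % p := by
    obtain ⟨k, hk⟩ := h.odd
    refine ⟨i * (k + 1), ?_⟩
    rw [show 2 * (i * (k + 1)) = i + p * i by rw [hk]; ring, Nat.add_mul_mod_self_left]
  have hu : orderOf (a * b) = p := h.pair a ha b hb hab
  have hs : a * ((a * b) ^ j)⁻¹ = (a * b) ^ j * a := by
    have h0 : a * (a * b) * a⁻¹ = (a * b)⁻¹ := by
      rw [h.inv ha, mul_inv_rev_inv (h.sq a ha) (h.sq b hb), h.cancel ha]
    calc a * ((a * b) ^ j)⁻¹ = a * ((a * b) ^ j)⁻¹ * a⁻¹ * a := by group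
      _ = (a * b) ^ j * a := by rw [← conj_inv, ← conj_pow, h0, inv_pow, inv_inv]
  have h1 := h.conj ((a * b) ^ j) a ha
  rw [mul_assoc, hs, ← mul_assoc, ← pow_add, ← two_mul] at h1
  rwa [← pow_mod_orderOf, hu, hj, ← hu, pow_mod_orderOf] at h1

end Cfsg.Agent.Lib.RankThreeInv22
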