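import Cfsg.Agent.Lib.RankThreeInv22.Triangle

/-!
If no two commuting members have the same commuting members, then each member commutes with `a` or
with `c`, for every pair of different commuting members `a`, `c`.

Owner: helper22.
-/

set_option autoImplicit false

namespace Cfsg.Agent.Lib.RankThreeInv22

universe u

variable {G : Type u} [Group G] [Finite G] {p : ℕ} {D : Set G} {a b c g h' k : G}

/-- Two members commuting with exactly the same members. -/
def Twins (D : Set G) (a c : G) : Prop := ∀ z ∈ D, Commute z a ↔ Commute z c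

/-- Four commuting members with product `1`: one implication. -/
theorem Hyp.quad_aux (h : Hyp p D) (ha : a ∈ D) (hg : g ∈ D) (hh : h' ∈ D) (hk : k ∈ D)
    (hgh : Commute g h') (hgk : Commute g k) (hah : Commute a h') (hngh : g ≠ h') (hngk : g ≠ k)
    (e : a * k = g * h') {z : G} (hz : z ∈ D) (hza : Commute z a) : Commute z g := by
  have e' : a * h' = g * k := by
    calc a * h' = a * (g * (g * h')) := by rw [h.cancel hg]
      _ = a * (g * (a * k)) := by rw [e]
      _ = g * k := by
        have hag : Commute a g := by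
          have e1 : a = g * h' * k := by rw [← e, h.cancel' hk]
          rw [e1]
          exact (((Commute.refl g).mul_left hgh.symm)).mul_left hgk.symm
        rw [← mul_assoc, hag.eq, mul_assoc, h.cancel ha]
  by_contra hzg
  by_cases hzh : Commute z h'
  · exact hzg (h.fix hg hk hz hgk hngk (e' ▸ (hza.mul_right hzh).symm)).1.symm
  · have h4 := h.type_four hg hh hz hgh hngh (fun f => hzg f.symm) (fun f => hzh f.symm)
    have hak : Commute a k := by
      have e1 : k = a * (g * h') := by rw [← e, h.cancel ha]
      have hag : Commute a g := by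
        have e2 : g = a * h' * k := by rw [e', h.cancel' hk]
        have e3 : a = g * h' * k := by rw [← e, h.cancel' hk]
        rw [e3]
        exact (((Commute.refl g).mul_left hgh.symm)).mul_left hgk.symm
      rw [e1]
      exact (Commute.refl a).mul_right (hag.mul_right hah)
    have h5 : g * h' * z * (g * h') = k * z * k := by
      rw [← e]
      calc a * k * z * (a * k) = k * a * z * (a * k) := by rw [hak.eq]
        _ = k * (z * a) * (a * k) := by rw [mul_assoc k a z, ← hza.eq]
        _ = k * z * k := by rw [mul_assoc, mul_assoc z a, h.cancel ha]; simp only [mul_assoc]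
    rw [h5] at h4
    have hzk : Commute z k := h.commute_of_commute_conj hz hk h4
    exact hzg (h.fix hg hh hz hgh hngh (e ▸ (hza.mul_right hzk).symm)).1.symm

/-- The transvection argument. -/
theorem Hyp.commute_or (h : Hyp p D) (hno : ∀ a ∈ D, ∀ c ∈ D, Commute a c → a ≠ c → ¬ Twins D a c)
    (ha : a ∈ D) (hc : c ∈ D) (hb : b ∈ D) (hac : Commute a c) (hne : a ≠ c) :
    Commute a b ∨ Commute c b := by
  classical
  by_contra hcon
  rw [not_or] at hcon
  obtain ⟨hab, hcb⟩ := hcon
  set t := a * c with ht
  have ht2 : t * t = 1 := by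
    rw [← pow_two, ht, hac.mul_pow, pow_two, pow_two, h.sq a ha, h.sq c hc, one_mul]
  have hta : Commute t a := (Commute.refl a).mul_left hac.symm
  set u := a * b with hu
  have hup : orderOf u = p := h.pair a ha b hb hab
  have hau : a * u * a⁻¹ = u⁻¹ := by
    rw [hu, mul_inv_rev_inv (h.sq a ha) (h.sq b hb), h.inv ha, h.cancel ha]
  have haup : ∀ i : ℕ, a * u ^ i = (u ^ i)⁻¹ * a := fun i => by
    rw [← inv_pow, ← hau, conj_pow, inv_mul_cancel_right]
  set f : ℕ → G := fun i => u ^ i * t * (u ^ i)⁻¹ with hf
  have h0 : ∀ i : ℕ, Commute t (f i) := by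
    intro i
    by_cases hi : u ^ i = 1
    · simp [hf, hi]
    set a' := u ^ i * a with ha'
    have haD : a' ∈ D := h.pow_mul_mem ha hb hab i
    have hnd : ¬ p ∣ i := fun hd => hi (orderOf_dvd_iff_pow_eq_one.1 (hup.symm ▸ hd))
    have hna : ¬ Commute a' a := by
      intro e
      have e2 := (commute_iff_sq (h.sq _ haD) (h.sq a ha)).1 e
      rw [ha', h.cancel' ha, ← pow_mul] at e2
      have hd : p ∣ i * 2 := hup ▸ orderOf_dvd_of_pow_eq_one e2
      rcases h.prime.dvd_mul.1 hd with hd | hd
      · exact hnd hd
      · have := Nat.le_of_dvd (by norm_num) hd; have := h.five; omega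
    have hnc : ¬ Commute a' c := by
      intro e
      have e1 : Commute (u ^ i) c := by
        have := e.mul_left hac
        rwa [ha', h.cancel' ha] at this
      obtain ⟨m, hm⟩ := exists_pow_eq_self_of_coprime (x := u) (n := i)
        (by rw [hup]; exact ((Nat.Prime.coprime_iff_not_dvd h.prime).2 hnd).symm)
      have e2 : Commute u c := hm ▸ e1.pow_left m
      have e3 : Commute b c := by
        have := hac.mul_left e2
        rwa [hu, h.cancel ha] at this
      exact hcb e3.symm
    have h4 := h.type_four ha hc haD hac hne (fun e => hna e.symm) (fun e => hnc e.symm)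
    rw [← ht] at h4
    have ht4 : Commute t (a' * t * a') := by
      have hs1 : t * a' * t * (t * a' * t) = 1 := by
        simp only [mul_assoc]
        rw [← mul_assoc t t, ht2, one_mul, ← mul_assoc a' a', h.sq _ haD, one_mul, ht2]
      have hs2 : a' * t * a' * (a' * t * a') = 1 := by
        simp only [mul_assoc]
        rw [← mul_assoc a' a', h.sq _ haD, one_mul, ← mul_assoc t t, ht2, one_mul, h.sq _ haD]
      refine Commute.symm ((commute_iff_sq hs2 ht2).2 ?_)
      rw [show a' * t * a' * t = a' * (t * a' * t) by simp only [mul_assoc]]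
      exact (commute_iff_sq (h.sq _ haD) hs1).1 h4
    have e5 : a' * t * a' = f i := by
      have e6 : a' * a' = 1 := h.sq _ haD
      calc a' * t * a' = a' * t * a'⁻¹ := by rw [inv_eq_of_mul_eq_one_right e6]
        _ = f i := by
          rw [ha', mul_inv_rev, h.inv ha, hf]
          simp only [mul_assoc]
          rw [← mul_assoc a t, ← hta.eq]
          simp only [mul_assoc, h.cancel ha]
    exact e5 ▸ ht4
  have hconjf : ∀ k i : ℕ, u ^ k * f i * (u ^ k)⁻¹ = f (k + i) := fun k i => by
    simp only [hf, pow_add]; group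
  have hff : ∀ i j : ℕ, Commute (f i) (f j) := by
    intro i j
    wlog hij : i ≤ j generalizing i j
    · exact (this j i (le_of_not_ge hij)).symm
    obtain ⟨k, rfl⟩ := Nat.exists_eq_add_of_le hij
    have e := (h0 k).map (MulAut.conj (u ^ i)).toMonoidHom
    simp only [MulEquiv.coe_toMonoidHom, MulAut.conj_apply, hconjf] at e
    exact e
  have hf2 : ∀ i, f i * f i = 1 := fun i => by
    show u ^ i * t * (u ^ i)⁻¹ * (u ^ i * t * (u ^ i)⁻¹) = 1
    calc _ = u ^ i * (t * t) * (u ^ i)⁻¹ := by group
      _ = 1 := by rw [ht2]; group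
  set N := Subgroup.closure (Set.range f) with hN
  have hNc : ∀ n ∈ N, ∀ n' ∈ N, Commute n n' := by
    intro n hn n' hn'
    induction hn, hn' using Subgroup.closure_induction₂ with
    | mem x y hx hy => obtain ⟨i, rfl⟩ := hx; obtain ⟨j, rfl⟩ := hy; exact hff i j
    | one_left y _ => exact Commute.one_left y
    | one_right x _ => exact Commute.one_right x
    | mul_left x y z _ _ _ e1 e2 => exact e1.mul_left e2
    | mul_right x y z _ _ _ e1 e2 => exact e1.mul_right e2
    | inv_left x y _ _ e => exact e.inv_left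
    | inv_right x y _ _ e => exact e.inv_right
  have hN2 : ∀ n ∈ N, n * n = 1 := by
    intro n hn
    induction hn using Subgroup.closure_induction with
    | mem x hx => obtain ⟨i, rfl⟩ := hx; exact hf2 i
    | one => exact one_mul 1
    | mul x y hx hy e1 e2 =>
      rw [← pow_two, (hNc x hx y hy).mul_pow, pow_two, pow_two, e1, e2, one_mul]
    | inv x hx e => rw [← mul_inv_rev, e, inv_one]
  have htN : t ∈ N := Subgroup.subset_closure ⟨0, by simp [hf]⟩
  have hNu : ∀ k : ℕ, ∀ n ∈ N, u ^ k * n * (u ^ k)⁻¹ ∈ N := by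
    intro k n hn
    induction hn using Subgroup.closure_induction with
    | mem x hx => obtain ⟨i, rfl⟩ := hx; exact Subgroup.subset_closure ⟨k + i, (hconjf k i).symm⟩
    | one => simp
    | mul x y _ _ e1 e2 =>
      have := N.mul_mem e1 e2
      convert this using 1
      group
    | inv x _ e =>
      have := N.inv_mem e
      convert this using 1
      group
  have hfa : ∀ i, a * f i * a ∈ N := by
    intro i
    obtain ⟨q, hq⟩ : ∃ q, p ∣ q + i := ⟨i * (p - 1), by
      have : i * (p - 1) + i = i * p := by
        have := h.five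
        calc i * (p - 1) + i = i * (p - 1 + 1) := by ring
          _ = i * p := by rw [Nat.sub_add_cancel (by omega)]
      rw [this]; exact dvd_mul_left p i⟩
    have hinv : (u ^ i)⁻¹ = u ^ q := by
      refine (eq_inv_of_mul_eq_one_left ?_).symm
      rw [← pow_add]
      exact orderOf_dvd_iff_pow_eq_one.1 (hup.symm ▸ hq)
    refine Subgroup.subset_closure ⟨q, ?_⟩
    simp only [hf]
    rw [← hinv, inv_inv]
    symm
    calc a * (u ^ i * t * (u ^ i)⁻¹) * a = (a * u ^ i) * t * ((u ^ i)⁻¹ * a) := by group
      _ = (u ^ i)⁻¹ * (a * t * a) * u ^ i := by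
        rw [← haup i]
        nth_rewrite 1 [haup i]
        simp only [mul_assoc]
      _ = _ := by rw [← hta.eq, h.cancel' ha]
  have hNa : ∀ n ∈ N, a * n * a ∈ N := by
    intro n hn
    induction hn using Subgroup.closure_induction with
    | mem x hx => obtain ⟨i, rfl⟩ := hx; exact hfa i
    | one => rw [mul_one, h.sq a ha]; exact N.one_mem
    | mul x y _ _ e1 e2 =>
      have := N.mul_mem e1 e2
      convert this using 1
      calc a * (x * y) * a = a * x * (a * a) * y * a := by rw [h.sq a ha]; group
        _ = _ := by group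
    | inv x _ e =>
      have := N.inv_mem e
      convert this using 1
      rw [mul_inv_rev, mul_inv_rev, h.inv ha, mul_assoc]
  -- the commutator with `a`
  set δ : G → G := fun n => a * n * a * n with hδ
  have hδN : ∀ n ∈ N, δ n ∈ N := fun n hn => N.mul_mem (hNa n hn) hn
  have hδmul : ∀ n ∈ N, ∀ m ∈ N, δ (n * m) = δ n * δ m := by
    intro n hn m hm
    simp only [hδ]
    have e : Commute (a * m * a) n := hNc _ (hNa m hm) _ hn
    calc a * (n * m) * a * (n * m) = a * n * a * ((a * m * a) * n) * m := by
          have : a * (n * m) * a = a * n * a * (a * m * a) := by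
            calc a * (n * m) * a = a * n * (a * a) * m * a := by rw [h.sq a ha]; group
              _ = _ := by group
          rw [this]; group
      _ = a * n * a * (n * (a * m * a)) * m := by rw [e.eq]
      _ = _ := by group
  have haδ : ∀ n ∈ N, a * δ n ∈ D ∧ Commute a (δ n) := by
    intro n hn
    have hninv : n⁻¹ = n := inv_eq_of_mul_eq_one_right (hN2 n hn)
    refine ⟨?_, ?_⟩
    · have e : a * δ n = n * a * n⁻¹ := by
        simp only [hδ, hninv, ← mul_assoc, h.sq a ha, one_mul]
      rw [e]; exact h.conj n a ha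
    · have e2 : (a * δ n * a) = δ n := by
        calc a * δ n * a = (a * a) * n * a * n * a := by simp only [hδ]; group
          _ = n * (a * n * a) := by rw [h.sq a ha]; group
          _ = δ n := (hNc _ hn _ (hNa n hn)).eq
      show a * δ n = δ n * a
      calc a * δ n = a * δ n * a * a := (h.cancel' ha _).symm
        _ = δ n * a := by rw [e2]
  have hδtwo : ∀ n ∈ N, ∀ m ∈ N, δ n ≠ 1 → δ m ≠ 1 → δ n = δ m := by
    intro n hn m hm hx hy
    by_contra hxy
    set x := δ n
    set y := δ m
    have hxx : x * x = 1 := hN2 _ (hδN n hn)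
    have hyy : y * y = 1 := hN2 _ (hδN m hm)
    have hxy' : Commute x y := hNc _ (hδN n hn) _ (hδN m hm)
    obtain ⟨hgD, hax⟩ := haδ n hn
    obtain ⟨hhD, hay⟩ := haδ m hm
    obtain ⟨hkD, haxy⟩ := haδ (n * m) (N.mul_mem hn hm)
    rw [hδmul n hn m hm] at hkD haxy
    have cA : ∀ {x y : G}, Commute a x → Commute a y → Commute x y →
        Commute (a * x) (a * y) := fun {x y} h1 h2 h3 =>
      ((Commute.refl a).mul_right h2).mul_left (h1.symm.mul_right h3)
    have n1 : x ≠ x * y := fun e => hy (left_eq_mul.1 e)
    have n2 : y ≠ x * y := fun e => hx (right_eq_mul.1 e)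
    have n3 : x * y ≠ 1 := fun e => hxy ((eq_inv_of_mul_eq_one_left e).trans
      (inv_eq_of_mul_eq_one_right hyy))
    have ag : Commute a (a * x) := (Commute.refl a).mul_right hax
    have ah : Commute a (a * y) := (Commute.refl a).mul_right hay
    have ak : Commute a (a * (x * y)) := (Commute.refl a).mul_right haxy
    have gk : Commute (a * x) (a * (x * y)) := cA hax haxy ((Commute.refl x).mul_right hxy')
    have hk' : Commute (a * y) (a * (x * y)) := cA hay haxy (hxy'.symm.mul_right (Commute.refl y))
    have gh : Commute (a * x) (a * y) := cA hax hay hxy'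
    have e1 : a * (a * (x * y)) = a * x * (a * y) := by
      rw [mul_assoc a x, ← mul_assoc x a, ← hax.eq, mul_assoc a x y]
    have hne1 : a * x ≠ a * y := fun e => hxy (mul_left_cancel e)
    refine hno a ha (a * x) hgD ag (fun e => hx (left_eq_mul.1 e)) fun z hz => ⟨fun hz' => ?_, fun hz' => ?_⟩
    · exact h.quad_aux ha hgD hhD hkD gh gk ah hne1
        (fun e => n1 (mul_left_cancel e)) e1 hz hz'
    · refine h.quad_aux hgD ha hkD hhD ak ah gk
        (fun e => n3 (left_eq_mul.1 e)) (fun e => hy (left_eq_mul.1 e)) ?_ hz hz'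
      exact e1.symm
  obtain ⟨x0, hx0⟩ : ∃ x0, ∀ n ∈ N, δ n = 1 ∨ δ n = x0 := by
    by_cases hex : ∃ n ∈ N, δ n ≠ 1
    · obtain ⟨n0, hn0, hne0⟩ := hex
      refine ⟨δ n0, fun n hn => ?_⟩
      by_cases hn1 : δ n = 1
      · exact Or.inl hn1
      · exact Or.inr (hδtwo n hn n0 hn0 hn1 hne0)
    · push Not at hex
      exact ⟨1, fun n hn => Or.inl (hex n hn)⟩
  -- the commutator with `b`, a conjugate of `a`
  obtain ⟨j, hj⟩ := h.odd
  set v := u ^ j with hv
  set v' := (u ^ j)⁻¹ with hv'
  have hbv : b = v * a * v' := by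
    have e1 : a * v' = v * a := by
      rw [hv', hv]
      calc a * (u ^ j)⁻¹ = u ^ j * ((u ^ j)⁻¹ * a) * (u ^ j)⁻¹ := by group
        _ = u ^ j * a := by rw [← haup]; group
    have e2 : u ^ (2 * j) = u⁻¹ := by
      refine (eq_inv_of_mul_eq_one_left ?_)
      rw [← pow_succ, ← hj, ← hup, pow_orderOf_eq_one]
    rw [mul_assoc v, e1, ← mul_assoc, hv, ← pow_add, ← two_mul, e2, hu,
      mul_inv_rev_inv (h.sq a ha) (h.sq b hb), h.cancel' ha]
  have hv'N : ∀ n ∈ N, v' * n * v ∈ N := by
    intro n hn
    have := hNu (j + 1) n hn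
    have e : u ^ (j + 1) = v' := by
      rw [hv']
      refine eq_inv_of_mul_eq_one_left ?_
      rw [← pow_add, show j + 1 + j = orderOf u by omega, pow_orderOf_eq_one]
    rwa [e, show v'⁻¹ = v by rw [hv', inv_inv]] at this
  set ω : G → G := fun n => u * n * u⁻¹ * n with hω
  have hω_eq : ∀ n ∈ N, ω n = a * (v * δ (v' * n * v) * v') * a * δ n := by
    intro n hn
    have e1 : v * δ (v' * n * v) * v' = b * n * b * n := by
      rw [hbv]; simp only [hδ, hv, hv']; group
    rw [e1]
    simp only [hω, hδ, hu, mul_inv_rev_inv (h.sq a ha) (h.sq b hb)]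
    have e3 : a * (b * n * b * n) * a * (a * n * a * n) = a * b * n * b * (n * (a * a) * n) * a * n := by
      group
    rw [e3, h.sq a ha, mul_one, hN2 n hn, mul_one]
    group
  set y1 := a * (v * x0 * v') * a with hy1
  have hωval : ∀ n ∈ N, ω n = 1 ∨ ω n = x0 ∨ ω n = y1 ∨ ω n = y1 * x0 := by
    intro n hn
    rw [hω_eq n hn]
    rcases hx0 (v' * n * v) (hv'N n hn) with e | e <;> rcases hx0 n hn with e' | e' <;> rw [e, e']
    · left
      rw [mul_one, mul_one, hv', hv, mul_inv_cancel, mul_one, h.sq a ha]
    · right; left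
      rw [mul_one, hv', hv, mul_inv_cancel, mul_one, h.sq a ha, one_mul]
    · right; right; left; rw [mul_one]
    · right; right; right; rfl
  have hu1 : u⁻¹ = u ^ (p - 1) := by
    refine (eq_inv_of_mul_eq_one_left ?_).symm
    rw [← pow_succ, Nat.sub_add_cancel (by have := h.five; omega), ← hup, pow_orderOf_eq_one]
  have hωN : ∀ n ∈ N, ω n ∈ N := fun n hn => N.mul_mem (by simpa using hNu 1 n hn) hn
  -- the action of `u` on the image of the commutator is trivial
  have hcent : Commute u (ω t) := by
    set x : Fin 5 → G := fun i => u ^ (i : ℕ) * ω t * (u ^ (i : ℕ))⁻¹ with hxdef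
    have hxv : ∀ i, x i ∈ ({1, x0, y1, y1 * x0} : Finset G) := by
      intro i
      have e : x i = ω (u ^ (i : ℕ) * t * (u ^ (i : ℕ))⁻¹) := by
        simp only [hxdef, hω]; group
      rw [e]
      simp only [Finset.mem_insert, Finset.mem_singleton]
      exact hωval _ (hNu _ t htN)
    obtain ⟨i, -, i', -, hii, heq⟩ :=
      Finset.exists_ne_map_eq_of_card_lt_of_maps_to (s := Finset.univ) (f := x)
        (t := ({1, x0, y1, y1 * x0} : Finset G))
        (lt_of_le_of_lt Finset.card_le_four (by simp)) (fun i _ => hxv i)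
    wlog hlt : (i : ℕ) < i' generalizing i i'
    · exact this i' i hii.symm heq.symm
        (lt_of_le_of_ne (not_lt.1 hlt) fun e => hii (Fin.ext e).symm)
    obtain ⟨k, hk⟩ := Nat.exists_eq_add_of_lt hlt
    simp only [hxdef, hk] at heq
    have hcomm : Commute (u ^ (k + 1)) (ω t) := by
      have e : u ^ (k + 1) * ω t * (u ^ (k + 1))⁻¹ = ω t := by
        have := congrArg (fun w => (u ^ (i : ℕ))⁻¹ * w * u ^ (i : ℕ)) heq
        rw [add_assoc, pow_add] at this
        group at this ⊢
        exact this.symm
      exact mul_inv_eq_iff_eq_mul.1 e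
    have hnd : ¬ p ∣ k + 1 := fun hd => by
      have := Nat.le_of_dvd (by omega) hd
      have := i'.2
      have := h.five
      omega
    obtain ⟨m, hm⟩ := exists_pow_eq_self_of_coprime (x := u) (n := k + 1)
      (by rw [hup]; exact ((Nat.Prime.coprime_iff_not_dvd h.prime).2 hnd).symm)
    exact hm ▸ hcomm.pow_left m
  have hpowconj : ∀ k : ℕ, u ^ k * t * (u ^ k)⁻¹ = ω t ^ k * t := by
    intro k
    induction k with
    | zero => simp
    | succ k ih =>
      have e1 : u * t * u⁻¹ = ω t * t := by
        simp only [hω]; rw [mul_assoc _ t t, ht2, mul_one]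
      calc u ^ (k + 1) * t * (u ^ (k + 1))⁻¹ = u * (u ^ k * t * (u ^ k)⁻¹) * u⁻¹ := by
            rw [pow_succ']; group
        _ = (u * ω t ^ k * u⁻¹) * (u * t * u⁻¹) := by rw [ih]; group
        _ = ω t ^ k * (ω t * t) := by rw [(hcent.pow_right k).eq, mul_inv_cancel_right, e1]
        _ = ω t ^ (k + 1) * t := by rw [pow_succ]; exact (mul_assoc _ _ _).symm
  have hω1 : ω t = 1 := by
    have e := hpowconj p
    rw [← hup, pow_orderOf_eq_one, one_mul, inv_one, mul_one, hup, hj, pow_succ,
      pow_mul, pow_two, hN2 _ (hωN t htN), one_pow, one_mul] at e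
    exact right_eq_mul.1 e
  have hut : Commute u t := by
    have e := hpowconj 1
    rw [pow_one, pow_one, hω1, one_mul] at e
    exact mul_inv_eq_iff_eq_mul.1 e
  have htb : Commute t b := by
    have := hta.mul_right hut.symm
    rwa [hu, h.cancel ha] at this
  exact hab (h.fix ha hc hb hac hne htb).1

end Cfsg.Agent.Lib.RankThreeInv22
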