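import Cfsg.Agent.Lib.Cores.Basic
import Cfsg.Agent.Lib.RankThreeInv22.Transvection

/-!
A generating class of involutions, with products of non-commuting members of order `p ≥ 5` and
`C(a)` transitive on the other members commuting with `a`, forces a non-trivial solvable normal
subgroup.

Owner: helper22.
-/

set_option autoImplicit false

open Cfsg

namespace Cfsg.Agent.Lib.RankThreeInv22

universe u

variable {G : Type u} [Group G] [Finite G] {p : ℕ} {D : Set G} {a c : G}

theorem Twins.conjugate (h : Hyp p D) (ht : Twins D a c) (g : G) :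
    Twins D (g * a * g⁻¹) (g * c * g⁻¹) := by
  intro z hz
  have h1 := ht (g⁻¹ * z * g) (by simpa using h.conj g⁻¹ z hz)
  have e : ∀ y, Commute (g⁻¹ * z * g) y ↔ Commute z (g * y * g⁻¹) := by
    intro y
    conv_lhs => rw [← Commute.conj_iff g]
    rw [show g * (g⁻¹ * z * g) * g⁻¹ = z by group]
  rwa [e, e] at h1

theorem Hyp.false_of_trans (h : Hyp p D) (ha : a ∈ D) (hc : c ∈ D) (hac : Commute a c)
    (hne : a ≠ c) (hgen : Subgroup.closure D = ⊤)
    (hclass : ∀ x ∈ D, ∀ y ∈ D, ∃ g : G, g * x * g⁻¹ = y)
    (htrans : ∀ x ∈ D, ∀ y ∈ D, ∀ z ∈ D, Commute x y → Commute x z → x ≠ y → x ≠ z →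
      ∃ g : G, g * x * g⁻¹ = x ∧ g * y * g⁻¹ = z)
    (hsol : ∀ N : Subgroup G, N.Normal → Group.IsSolvable ↥N → N = ⊥) : False := by
  classical
  haveI : Fact (Nat.Prime 2) := ⟨Nat.prime_two⟩
  set t := a * c with ht
  have ht2 : t * t = 1 := by
    rw [← pow_two, ht, hac.mul_pow, pow_two, pow_two, h.sq a ha, h.sq c hc, one_mul]
  have htinv : t⁻¹ = t := inv_eq_of_mul_eq_one_right ht2
  have ht1 : t ≠ 1 := fun e => hne ((eq_inv_of_mul_eq_one_left e).trans (h.inv hc))
  by_cases hex : ∃ x ∈ D, ∃ y ∈ D, Commute x y ∧ x ≠ y ∧ Twins D x y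
  · -- commuting is transitive
    obtain ⟨x, hx, y, hy, hxy, hnxy, htw⟩ := hex
    have hall : ∀ b ∈ D, ∀ d ∈ D, Commute b d → ∀ z ∈ D, Commute z b → Commute z d := by
      intro b hb d hd hbd z hz hzb
      by_cases hbd' : b = d
      · exact hbd' ▸ hzb
      obtain ⟨g, hg⟩ := hclass x hx b hb
      have hy' : Commute b (g * y * g⁻¹) := by
        have := hxy.map (MulAut.conj g).toMonoidHom
        simpa [MulAut.conj_apply, hg] using this
      have hny : b ≠ g * y * g⁻¹ := by
        rw [← hg]; exact fun e => hnxy (mul_left_cancel (mul_right_cancel e))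
      obtain ⟨k, hk1, hk2⟩ := htrans b hb _ (h.conj g y hy) d hd hy' hbd hny hbd'
      have := (htw.conjugate h g).conjugate h k
      rw [hg, hk1, hk2] at this
      exact (this z hz).1 hzb
    let R : Subgroup G :=
      { carrier := {g | ∀ b ∈ D, Commute b (g * b * g⁻¹)}
        one_mem' := fun b _ => by simp
        mul_mem' := fun {g g'} hg hg' b hb => by
          have h1 := hg' b hb
          have h2 := hg _ (h.conj g' b hb)
          rw [show g * g' * b * (g * g')⁻¹ = g * (g' * b * g'⁻¹) * g⁻¹ by group]
          exact hall _ (h.conj g' b hb) _ (h.conj g _ (h.conj g' b hb)) h2 b hb h1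
        inv_mem' := fun {g} hg b hb => by
          have h1 := hg _ (h.conj g⁻¹ b hb)
          rw [show g * (g⁻¹ * b * g⁻¹⁻¹) * g⁻¹ = b by group] at h1
          exact h1.symm }
    have hRn : R.Normal := ⟨fun g hg k b hb => by
      have h1 := (hg _ (h.conj k⁻¹ b hb)).map (MulAut.conj k).toMonoidHom
      simp only [MulEquiv.coe_toMonoidHom, MulAut.conj_apply] at h1
      rw [show k * (k⁻¹ * b * k⁻¹⁻¹) * k⁻¹ = b by group,
        show k * (g * (k⁻¹ * b * k⁻¹⁻¹) * g⁻¹) * k⁻¹ = k * g * k⁻¹ * b * (k * g * k⁻¹)⁻¹ by group]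
        at h1
      exact h1⟩
    have htR : t ∈ R := by
      intro b hb
      rw [htinv]
      by_cases hab : Commute a b
      · have hcb : Commute c b := ((hall a ha c hc hac b hb hab.symm)).symm
        have : Commute t b := hab.mul_left hcb
        rw [this.eq, mul_assoc, ht2, mul_one]
      · exact h.type_four ha hc hb hac hne hab
          fun e => hab (hall c hc a ha hac.symm b hb e.symm).symm
    set A := Subgroup.closure {x | x ∈ D ∧ Commute x a} with hA
    have hAc : ∀ n ∈ A, ∀ n' ∈ A, Commute n n' := by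
      intro n hn n' hn'
      induction hn, hn' using Subgroup.closure_induction₂ with
      | mem x y hx hy => exact hall a ha y hy.1 hy.2.symm x hx.1 hx.2
      | one_left y _ => exact Commute.one_left y
      | one_right x _ => exact Commute.one_right x
      | mul_left x y z _ _ _ e1 e2 => exact e1.mul_left e2
      | mul_right x y z _ _ _ e1 e2 => exact e1.mul_right e2
      | inv_left x y _ _ e => exact e.inv_left
      | inv_right x y _ _ e => exact e.inv_right
    have hA2 : ∀ n ∈ A, n * n = 1 := by
      intro n hn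
      induction hn using Subgroup.closure_induction with
      | mem x hx => exact h.sq x hx.1
      | one => exact one_mul 1
      | mul x y hx hy e1 e2 =>
        rw [← pow_two, (hAc x hx y hy).mul_pow, pow_two, pow_two, e1, e2, one_mul]
      | inv x hx e => rw [← mul_inv_rev, e, inv_one]
    have hRA : ∀ g ∈ R, ∀ n ∈ A, g * n * g⁻¹ ∈ A := by
      intro g hg n hn
      induction hn using Subgroup.closure_induction with
      | mem x hx =>
        refine Subgroup.subset_closure ⟨h.conj g x hx.1, ?_⟩
        exact hall x hx.1 a ha hx.2 _ (h.conj g x hx.1) (hg x hx.1).symm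
      | one => simp
      | mul x y _ _ e1 e2 =>
        have := A.mul_mem e1 e2
        convert this using 1
        group
      | inv x _ e =>
        have := A.inv_mem e
        convert this using 1
        group
    set M : Subgroup R := A.subgroupOf R with hM
    have hMn : M.Normal := ⟨fun n hn g => by
      show ((g * n * g⁻¹ : R) : G) ∈ A
      simpa using hRA (g : G) g.2 (n : G) hn⟩
    have hM2 : IsPGroup 2 M := fun n => ⟨1, by
      apply Subtype.ext
      apply Subtype.ext
      show ((n : R) : G) ^ 2 ^ 1 = 1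
      rw [pow_one, pow_two]
      exact hA2 _ n.2⟩
    have hle : M ≤ Cfsg.pCore 2 R := Cores.le_pCore hM2
    haveI := hRn
    set P := (Cfsg.pCore 2 R).map R.subtype
    have hPn : P.Normal := by
      refine ⟨fun n hn k => ?_⟩
      obtain ⟨y, hy, rfl⟩ := hn
      refine ⟨MulAut.conjNormal k y, ?_, by simp [MulAut.conjNormal_apply]⟩
      rw [← Cores.map_pCore_equiv (p := 2) (MulAut.conjNormal k : R ≃* R)]
      exact ⟨y, hy, rfl⟩
    have hP2 : IsPGroup 2 P := (Cores.pCore_isPGroup 2).map _
    have hPsol : Group.IsSolvable P := by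
      haveI := hP2.isNilpotent
      infer_instance
    have hbot := hsol P hPn hPsol
    apply ht1
    have htA : t ∈ A := A.mul_mem (Subgroup.subset_closure ⟨ha, Commute.refl a⟩)
      (Subgroup.subset_closure ⟨hc, hac.symm⟩)
    have : t ∈ P := ⟨⟨t, htR⟩, hle htA, rfl⟩
    rwa [hbot, Subgroup.mem_bot] at this
  · push Not at hex
    have key : ∀ x ∈ D, ∀ b ∈ D, ¬ Commute x b → ∀ z ∈ D, z ≠ x → Commute z x → Commute z b := by
      intro x hx b hb hxb z hz hzx hzc
      rcases h.commute_or hex hx hz hb hzc.symm (Ne.symm hzx) with e | e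
      · exact absurd e hxb
      · exact e
    set Q := {y | y ∈ D ∧ (y = a ∨ ¬ Commute y a)} with hQ
    have hinv : ∀ x ∈ D, ∀ y ∈ Q, x * y * x ∈ Q := by
      rintro x hx y ⟨hy, hya⟩
      refine ⟨h.conj_self hx hy, ?_⟩
      rcases hya with rfl | hya
      · by_cases hxy : Commute x y
        · left
          rw [hxy.eq, h.cancel' hx]
        · right
          exact fun e => hxy (h.commute_of_commute_conj hy hx e.symm).symm
      · by_contra hcon
        rw [not_or, not_not] at hcon
        have h1 : Commute (x * y * x) y :=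
          key a ha y hy (fun e => hya e.symm) _ (h.conj_self hx hy) hcon.1 hcon.2
        have hxy : Commute y x := h.commute_of_commute_conj hy hx h1.symm
        apply hya
        have e : x * y * x = y := by rw [hxy.symm.eq, h.cancel' hx]
        exact e ▸ hcon.2
    obtain ⟨g, hg⟩ := hclass a ha c hc
    have hall : ∀ g : G, ∀ y ∈ Q, g * y * g⁻¹ ∈ Q ∧ g⁻¹ * y * g ∈ Q := by
      intro g
      have hgm : g ∈ Subgroup.closure D := hgen ▸ Subgroup.mem_top g
      induction hgm using Subgroup.closure_induction with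
      | mem x hx => intro y hy; rw [h.inv hx]; exact ⟨hinv x hx y hy, hinv x hx y hy⟩
      | one => intro y hy; simpa using hy
      | mul x z _ _ e1 e2 =>
        intro y hy
        refine ⟨?_, ?_⟩
        · convert (e1 _ (e2 y hy).1).1 using 1; group
        · convert (e2 _ (e1 y hy).2).2 using 1; group
      | inv x _ e => intro y hy; rw [inv_inv]; exact ⟨(e y hy).2, (e y hy).1⟩
    obtain ⟨-, e | e⟩ := (hall g a ⟨ha, Or.inl rfl⟩).1
    · exact hne (hg ▸ e).symm
    · exact e (hg ▸ hac.symm)

end Cfsg.Agent.Lib.RankThreeInv22
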