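import Cfsg.Agent.Lib.CITReduce.SuzukiGraph
import Cfsg.Prelude.Def_Sz
import Mathlib

/-!
In `L₂(2^n)` and in the Suzuki groups the products of two conjugates of an involution have orders
which are not all in `{1, 2, p}` for a single prime `p ≥ 5`.

Owner: helper22.
-/

set_option autoImplicit false

namespace Cfsg.Agent.Lib.RankThreeInv22.Models

open scoped MatrixGroups
open Matrix

variable {F : Type*} [Field F]

theorem sl_center_eq_one [CharP F 2] {g : Matrix.SpecialLinearGroup (Fin 2) F}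
    (hg : g ∈ Subgroup.center (Matrix.SpecialLinearGroup (Fin 2) F)) : g = 1 := by
  obtain ⟨r, hr, hrg⟩ := Matrix.SpecialLinearGroup.mem_center_iff.1 hg
  have h1 : r = 1 := by
    refine CharTwo.sq_injective ?_
    simpa using hr
  subst h1
  apply Subtype.ext
  rw [Matrix.SpecialLinearGroup.coe_one, ← hrg, map_one]

/-- An involution of `SL₂(F)`, `F` of characteristic `2`, times a suitable conjugate has order `3`. -/
theorem sl_order_three [CharP F 2] {g : Matrix.SpecialLinearGroup (Fin 2) F} (hg : g * g = 1) (hne : g ≠ 1) :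
    ∃ k : Matrix.SpecialLinearGroup (Fin 2) F, orderOf (g * (k * g * k⁻¹)) = 3 := by
  haveI : Fact (Nat.Prime 3) := ⟨Nat.prime_three⟩
  set α := g.1 0 0
  set β := g.1 0 1
  set γ := g.1 1 0
  set δ := g.1 1 1
  have two : (2 : F) = 0 := CharTwo.two_eq_zero
  have hdet : α * δ - β * γ = 1 := by
    have := g.2
    rwa [Matrix.det_fin_two] at this
  have hm : g.1 * g.1 = 1 := congrArg Subtype.val hg
  have e00 : α * α + β * γ = 1 := by
    simpa [Matrix.mul_apply, Fin.sum_univ_two] using congrFun (congrFun hm 0) 0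
  have e01 : β * (α + δ) = 0 := by
    have := congrFun (congrFun hm 0) 1
    simp [Matrix.mul_apply, Fin.sum_univ_two] at this
    linear_combination this
  have e10 : γ * (α + δ) = 0 := by
    have := congrFun (congrFun hm 1) 0
    simp [Matrix.mul_apply, Fin.sum_univ_two] at this
    linear_combination this
  have hco : ∀ k : Matrix.SpecialLinearGroup (Fin 2) F,
      (g * (k * g * k⁻¹)).1 = g.1 * (k.1 * g.1 * k.1.adjugate) := fun k => by
    simp only [Matrix.SpecialLinearGroup.coe_mul, Matrix.SpecialLinearGroup.coe_inv]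
  have key : ∀ k : Matrix.SpecialLinearGroup (Fin 2) F,
      (g.1 * (k.1 * g.1 * k.1.adjugate)) 0 0 + (g.1 * (k.1 * g.1 * k.1.adjugate)) 1 1 = 1 →
      orderOf (g * (k * g * k⁻¹)) = 3 := by
    intro k hk
    rw [← hco k] at hk
    set M := g * (k * g * k⁻¹) with hM
    refine orderOf_eq_prime ?_ ?_
    · have hd : M.1 0 0 * M.1 1 1 - M.1 0 1 * M.1 1 0 = 1 := by
        have := M.2
        rwa [Matrix.det_fin_two] at this
      apply Subtype.ext
      rw [Matrix.SpecialLinearGroup.coe_pow, Matrix.SpecialLinearGroup.coe_one, pow_succ, pow_two]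
      generalize hA : M.1 = A at hd hk
      have hA2 : A * A = A + 1 := by
        ext i j
        fin_cases i <;> fin_cases j <;> simp [Matrix.mul_apply, Fin.sum_univ_two]
        · linear_combination (A 0 0) * hk - hd - two
        · linear_combination (A 0 1) * hk
        · linear_combination (A 1 0) * hk
        · linear_combination (A 1 1) * hk - hd - two
      rw [hA2, add_mul, one_mul, hA2]
      ext i j
      simp only [Matrix.add_apply]
      rw [add_right_comm, CharTwo.add_self_eq_zero, zero_add]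
    · intro h1
      rw [h1] at hk
      simp only [Matrix.SpecialLinearGroup.coe_one, Matrix.one_apply_eq] at hk
      exact one_ne_zero (show (1 : F) = 0 by linear_combination hk)
  have hg' : g.1 = !![α, β; γ, δ] := Matrix.eta_fin_two g.1
  by_cases hβ : β = 0
  · have hα : α = 1 := by
      refine CharTwo.sq_injective ?_
      show α ^ 2 = 1 ^ 2
      rw [hβ] at e00
      linear_combination e00
    have hδ : δ = 1 := by rw [hβ, hα] at hdet; linear_combination hdet
    have hγ : γ ≠ 0 := fun h0 => hne (Subtype.ext (by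
      ext i j
      fin_cases i <;> fin_cases j <;> first | exact hα | exact hβ | exact h0 | exact hδ))
    refine ⟨⟨!![1, γ⁻¹; 0, 1], by simp [Matrix.det_fin_two]⟩, key _ ?_⟩
    rw [hg']
    simp [Matrix.adjugate_fin_two, Matrix.mul_apply, Fin.sum_univ_two, hα, hβ, hδ]
    field_simp
    ring
  · have hαδ : α + δ = 0 := (mul_eq_zero.1 e01).resolve_left hβ
    have hδ : δ = α := by linear_combination hαδ - α * two
    refine ⟨⟨!![1, 0; β⁻¹, 1], by simp [Matrix.det_fin_two]⟩, key _ ?_⟩
    rw [hg']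
    simp [Matrix.adjugate_fin_two, Matrix.mul_apply, Fin.sum_univ_two, hδ]
    field_simp
    linear_combination (α * α + β * γ - 1) * two

/-- The same in `PSL₂(F)`. -/
theorem psl_order_three [CharP F 2] {x : Matrix.ProjectiveSpecialLinearGroup (Fin 2) F} (hx : x * x = 1)
    (hne : x ≠ 1) :
    ∃ k : Matrix.ProjectiveSpecialLinearGroup (Fin 2) F, orderOf (x * (k * x * k⁻¹)) = 3 := by
  obtain ⟨g, rfl⟩ := QuotientGroup.mk'_surjective _ x
  have hg : g * g = 1 := by
    rw [← map_mul] at hx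
    exact sl_center_eq_one ((QuotientGroup.eq_one_iff _).1 hx)
  have hg1 : g ≠ 1 := fun e => hne (by rw [e, map_one])
  obtain ⟨k, hk⟩ := sl_order_three hg hg1
  refine ⟨QuotientGroup.mk' _ k, ?_⟩
  rw [← map_inv, ← map_mul, ← map_mul, ← map_mul]
  rw [orderOf_injective _ _ (g * (k * g * k⁻¹)), hk]
  rw [← MonoidHom.ker_eq_bot_iff, QuotientGroup.ker_mk', eq_bot_iff]
  exact fun c hc => Subgroup.mem_bot.2 (sl_center_eq_one hc)

section Suzuki

open Cfsg.Agent.Lib.LieTwisted.Suzuki Cfsg.Agent.Lib.CITReduce.SuzukiGraph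

variable {F : Type*} [Field F] [Fintype F] {m : ℕ} (h : IsSzField F m)

/-- An involution times the Weyl element of order five. -/
theorem uS_mul_wS_pow_five : (uS h 0 1 * wS h) ^ 5 = 1 := by
  haveI := h.charTwo
  let φ : ZMod 2 →+* F := ZMod.castHom (dvd_refl 2) F
  set A : Matrix (Fin 4) (Fin 4) (ZMod 2) :=
    !![1, 0, 1, 1; 0, 1, 0, 1; 0, 0, 1, 0; 0, 0, 0, 1] *
      !![0, 0, 0, 1; 0, 0, 1, 0; 0, 1, 0, 0; 1, 0, 0, 0]
  have hA : A ^ 5 = 1 := by decide
  have hm0 : mat (uS h 0 1 * wS h) = φ.mapMatrix A := by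
    rw [map_mul, mat_mul, h.mat_uS, h.mat_wS]
    congr 1 <;> ext i j <;> fin_cases i <;> fin_cases j <;>
      simp [utMat, wMat, zfun, sg_zero, sg_one]
  apply mat_injective
  simp only [pow_succ, pow_zero, one_mul, mat_mul, mat_one] at hm0 ⊢
  rw [hm0]
  have h5 := congrArg φ.mapMatrix hA
  simp only [pow_succ, pow_zero, one_mul, map_mul, map_one] at h5
  exact h5

theorem uS_mul_wS_ne : uS h 0 1 * wS h ≠ 1 := by
  intro e
  have := congrFun (congrFun (congrArg mat e) 1) 0
  simp [mat_mul, mat_one, h.mat_uS, h.mat_wS, utMat, wMat, zfun, sg_zero, sg_one, Matrix.mul_apply,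
    Fin.sum_univ_four] at this

variable (hm : 1 ≤ m)
include h hm

/-- The products of two involutions of a Suzuki group have two different orders above `2`. -/
theorem sz_false {p : ℕ} (hp : 5 ≤ p)
    (hord : ∀ s t : Cfsg.Sz F m, orderOf s = 2 → orderOf t = 2 →
      orderOf (s * t) = 1 ∨ orderOf (s * t) = 2 ∨ orderOf (s * t) = p) : False := by
  classical
  haveI : Fact (Nat.Prime 2) := ⟨Nat.prime_two⟩
  haveI : Fact (Nat.Prime 5) := ⟨Nat.prime_five⟩
  have hw : orderOf (wS h) = 2 := by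
    refine orderOf_eq_prime (by rw [pow_two]; exact h.wS_mul_self) fun e => ?_
    have := congrFun (congrFun (congrArg mat e) 0) 0
    simp [mat_one, h.mat_wS, wMat] at this
  have hu : orderOf (uS h 0 1) = 2 := by
    refine orderOf_eq_prime ?_ fun e => ?_
    · rw [pow_two, h.uS_mul, sg_zero]
      haveI := h.charTwo
      simp [CharTwo.add_self_eq_zero, h.uS_zero]
    · rw [← h.uS_zero] at e
      exact one_ne_zero (h.uS_coords_inj e).2
  have h5 : orderOf (uS h 0 1 * wS h) = 5 :=
    orderOf_eq_prime (uS_mul_wS_pow_five h) (uS_mul_wS_ne h)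
  have hp5 : p = 5 := by
    rcases hord _ _ hu hw with e | e | e <;> omega
  obtain ⟨e, he⟩ := IsCyclic.exists_ofOrder_eq_natCard (α := Fˣ)
  have hq : orderOf e = 2 ^ (2 * m + 1) - 1 := by
    rw [he, Nat.card_eq_fintype_card, Fintype.card_units, h.card]
  have hsq : (wS h * dS h e) ^ 2 = 1 := by
    rw [pow_two]
    nth_rewrite 1 [h.wS_mul_dS]
    rw [mul_assoc, ← mul_assoc (wS h), h.wS_mul_self, one_mul, ← map_mul, inv_mul_cancel, map_one]
  have hwd : orderOf (wS h * dS h e) = 2 := by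
    refine orderOf_eq_prime hsq fun e1 => ?_
    have h1 : dS h e = wS h := by
      rw [← h.wS_inv]; exact eq_inv_of_mul_eq_one_right e1
    have := congrFun (congrFun (congrArg mat h1) 0) 3
    simp [h.mat_dS, h.mat_wS, dgMat, wMat] at this
  have h4 : 8 ≤ 2 ^ (2 * m + 1) :=
    le_trans (le_of_eq (by norm_num : (8 : ℕ) = 2 ^ 3)) (Nat.pow_le_pow_right (by norm_num) (by omega))
  have h6 : orderOf (wS h * (wS h * dS h e)) = 2 ^ (2 * m + 1) - 1 := by
    rw [← mul_assoc, h.wS_mul_self, one_mul, orderOf_injective _ h.dS_injective, hq]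
  rcases hord _ _ hw hwd with e' | e' | e' <;> omega

end Suzuki

/-- No involution of a Suzuki group has all products with conjugates of order `1`, `2` or `p`. -/
theorem isoSuzuki_false {Q : Type*} [Group Q] (hQ : Cfsg.Lie.IsoSuzuki Q) {p : ℕ} (hp : 5 ≤ p)
    {x : Q} (hx : orderOf x = 2)
    (hord : ∀ g g' : Q, orderOf (g * x * g⁻¹ * (g' * x * g'⁻¹)) = 1 ∨
      orderOf (g * x * g⁻¹ * (g' * x * g'⁻¹)) = 2 ∨ orderOf (g * x * g⁻¹ * (g' * x * g'⁻¹)) = p) :
    False := by
  obtain ⟨F, _, _, m, hm, hF, ⟨e⟩⟩ := hQ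
  have h : Cfsg.Agent.Lib.LieTwisted.Suzuki.IsSzField F m := ⟨hF⟩
  let φ : Q ≃* Cfsg.Sz F m := e.trans (Cfsg.Agent.Lib.LieTwisted.Suzuki.szEquiv h hm).symm
  refine sz_false h hm hp fun s t hs ht => ?_
  have hxo : orderOf (φ x) = 2 := by rw [φ.orderOf_eq, hx]
  obtain ⟨k, hk⟩ := isConj_iff.1 (Cfsg.Agent.Lib.CITReduce.SuzukiGraph.isConj_involutions h hm hxo hs)
  obtain ⟨l, hl⟩ := isConj_iff.1 (Cfsg.Agent.Lib.CITReduce.SuzukiGraph.isConj_involutions h hm hxo ht)
  obtain ⟨g, rfl⟩ := φ.surjective k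
  obtain ⟨g', rfl⟩ := φ.surjective l
  rw [← hk, ← hl, ← map_inv, ← map_inv, ← map_mul, ← map_mul, ← map_mul, ← map_mul, ← map_mul,
    φ.orderOf_eq]
  exact hord g g'

end Cfsg.Agent.Lib.RankThreeInv22.Models
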