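import Cfsg.Agent.S5051
import Cfsg.Agent.Lib.RankThreeInv22.Basic
import Cfsg.Agent.Lib.RankThreeInv22.Models

/-!
For commuting members `a`, `c` and a member `b` commuting with neither, `b` commutes with
`b ^ (a * c)`.

Owner: helper22.
-/

set_option autoImplicit false

open Cfsg

namespace Cfsg.Agent.Lib.RankThreeInv22

section dihedral

/-- Commuting non-central involutions of a dihedral group, whose product is one too, do not exist. -/
theorem dihedral_false {n : ℕ} {A C B : DihedralGroup n} (hA : A * A = 1) (hC : C * C = 1)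
    (hAC : Commute A C) (hAB : ¬ Commute A B) (hCB : ¬ Commute C B) (hP : ¬ Commute (A * C) B) :
    False := by
  have central : ∀ i : ZMod n, i = -i → ∀ B : DihedralGroup n, Commute (DihedralGroup.r i) B := by
    intro i hi B
    cases B with
    | r j => show _ * _ = _ * _; simp [DihedralGroup.r_mul_r, add_comm]
    | sr j =>
      show _ * _ = _ * _
      simp only [DihedralGroup.r_mul_sr, DihedralGroup.sr_mul_r]
      congr 1
      rw [sub_eq_add_neg, ← hi]
  have refl : ∀ A : DihedralGroup n, A * A = 1 → ¬ Commute A B → ∃ i, A = DihedralGroup.sr i := by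
    intro A hA hAB
    cases A with
    | r i =>
      refine absurd (central i ?_ B) hAB
      rw [DihedralGroup.r_mul_r, DihedralGroup.one_def] at hA
      exact eq_neg_of_add_eq_zero_left (DihedralGroup.r.inj hA)
    | sr i => exact ⟨i, rfl⟩
  obtain ⟨i, rfl⟩ := refl A hA hAB
  obtain ⟨j, rfl⟩ := refl C hC hCB
  apply hP
  rw [DihedralGroup.sr_mul_sr]
  refine central _ ?_ B
  have := hAC.eq
  rw [DihedralGroup.sr_mul_sr, DihedralGroup.sr_mul_sr] at this
  rw [neg_sub]
  exact DihedralGroup.r.inj this

end dihedral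

universe u

variable {G : Type u} [Group G] [Finite G] {p : ℕ} {D : Set G} {a b c d : G}

/-- Three pairwise commuting members whose product centralises a member outside. -/
theorem Hyp.no_triangle (h : Hyp p D) (ha : a ∈ D) (hc : c ∈ D) (hd : d ∈ D) (hb : b ∈ D)
    (hac : Commute a c) (had : Commute a d) (hcd : Commute c d) (hne1 : a ≠ c) (hne2 : a ≠ d)
    (hne3 : c ≠ d) (hab : ¬ Commute a b) (hcb : ¬ Commute c b) (hdb : ¬ Commute d b)
    (hib : Commute (a * c * d) b) : False := by
  classical
  haveI : Fact p.Prime := ⟨h.prime⟩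
  haveI : Fact (Nat.Prime 2) := ⟨Nat.prime_two⟩
  have hp5 := h.five
  set H : Subgroup G := Subgroup.closure {a, c, d, b} with hH
  set i := a * c * d with hi
  have hi2 : i * i = 1 := by
    rw [← pow_two, hi, (had.mul_left hcd).mul_pow, hac.mul_pow, pow_two, pow_two,
      pow_two, h.sq a ha, h.sq c hc, h.sq d hd, one_mul, one_mul]
  let aH : H := ⟨a, Subgroup.subset_closure (by simp)⟩
  let cH : H := ⟨c, Subgroup.subset_closure (by simp)⟩
  let dH : H := ⟨d, Subgroup.subset_closure (by simp)⟩
  let bH : H := ⟨b, Subgroup.subset_closure (by simp)⟩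
  let iH : H := aH * cH * dH
  have hci : ∀ w ∈ H, Commute i w := by
    intro w hw
    have hle : H ≤ Subgroup.centralizer ({i} : Set G) := by
      refine (Subgroup.closure_le _).2 ?_
      intro y hy
      rw [SetLike.mem_coe, Subgroup.mem_centralizer_singleton_iff]
      have hia : Commute i a := ((Commute.refl a).mul_left hac.symm).mul_left had.symm
      have hic : Commute i c := (hac.mul_left (Commute.refl c)).mul_left hcd.symm
      have hid : Commute i d := (had.mul_left hcd).mul_left (Commute.refl d)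
      rcases hy with rfl | rfl | rfl | rfl
      exacts [hia.symm.eq, hic.symm.eq, hid.symm.eq, hib.symm.eq]
    exact (Subgroup.mem_centralizer_singleton_iff.1 (hle hw)).symm
  set DH : Set H := {w | (w : G) ∈ D} with hDH
  have hpairH : ∀ v ∈ DH, ∀ w ∈ DH, Commute v w ∨ orderOf (v * w) = p := by
    intro v hv w hw
    by_cases hvw : Commute (v : G) w
    · exact Or.inl (Subtype.ext hvw.eq)
    · exact Or.inr (by rw [← Subgroup.orderOf_coe]; exact h.pair _ hv _ hw hvw)
  have hgen : Subgroup.closure DH = ⊤ := by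
    refine top_le_iff.1 ?_
    rw [← Subgroup.closure_closure_coe_preimage (k := ({a, c, d, b} : Set G))]
    refine Subgroup.closure_mono ?_
    intro w hw
    rcases hw with e | e | e | e <;> (show (w : G) ∈ D; rw [e]; assumption)
  have hodd : Cfsg.IsOddTranspositionSet DH := by
    refine ⟨⟨?_, hgen, ?_, ?_⟩, ?_⟩
    · intro w hw
      rw [← Subgroup.orderOf_coe]
      exact orderOf_eq_prime (by rw [pow_two]; exact h.sq _ hw) (h.ne _ hw)
    · intro w hw g
      exact h.conj g w hw
    · intro v hv w hw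
      rcases hpairH v hv w hw with e | e
      · exact Or.inl e.eq
      · exact Or.inr (Or.inl (e ▸ h.odd))
    · intro v hv w hw e4
      rcases hpairH v hv w hw with e | e
      · have : (v * w) ^ 2 = 1 := by
          rw [e.mul_pow, pow_two, pow_two, show v * v = 1 from Subtype.ext (h.sq _ hv),
            show w * w = 1 from Subtype.ext (h.sq _ hw), one_mul]
        have := orderOf_dvd_of_pow_eq_one this
        rw [e4] at this
        norm_num at this
      · rw [e4] at e
        have := h.prime
        rw [← e] at this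
        norm_num at this
  have hcm : ∀ w ∈ DH, (Commute (w : G) a ↔ Commute (w : G) c) ∧
      (Commute (w : G) a ↔ Commute (w : G) d) := by
    intro w hw
    have hiw : Commute i (w : G) := hci _ w.2
    have e1 : a * (c * d) = i := by rw [hi, mul_assoc]
    have e2 : c * (a * d) = i := by rw [hi, ← mul_assoc, hac.eq]
    have e3 : d * (a * c) = i := (had.mul_left hcd).symm.eq.trans hi.symm
    have step : ∀ {x y z : G}, x ∈ D → y ∈ D → z ∈ D → Commute y z → y ≠ z → x * (y * z) = i →
        Commute x (w : G) → Commute y (w : G) ∧ Commute z (w : G) := by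
      intro x y z hx hy hz hyz hne e hxw
      refine h.fix hy hz hw hyz hne ?_
      have hyz' : y * z = x * i := by rw [← e, h.cancel hx]
      rw [hyz']
      exact hxw.mul_left hiw
    refine ⟨⟨fun e => ((step ha hc hd hcd hne3 e1 e.symm).1).symm,
      fun e => ((step hc ha hd had hne2 e2 e.symm).1).symm⟩,
      ⟨fun e => ((step ha hc hd hcd hne3 e1 e.symm).2).symm,
      fun e => ((step hd ha hc hac hne1 e3 e.symm).1).symm⟩⟩
  have hE : ∀ w : H, ((w : G) = a ∨ (w : G) = c ∨ (w : G) = d) →
      w ∈ Cfsg.sameCommutingClass DH aH := by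
    intro w hw
    refine ⟨?_, ?_⟩
    · rcases hw with e | e | e
      · show (w : G) ∈ D; rw [e]; exact ha
      · show (w : G) ∈ D; rw [e]; exact hc
      · show (w : G) ∈ D; rw [e]; exact hd
    · ext v
      refine ⟨fun ⟨hv, e⟩ => ⟨hv, ?_⟩, fun ⟨hv, e⟩ => ⟨hv, ?_⟩⟩
      · have e' : Commute (v : G) a := congrArg Subtype.val e
        apply Subtype.ext
        rcases hw with f | f | f
        · show (v : G) * w = w * v; rw [f]; exact e'.eq
        · show (v : G) * w = w * v; rw [f]; exact ((hcm v hv).1.1 e').eq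
        · show (v : G) * w = w * v; rw [f]; exact ((hcm v hv).2.1 e').eq
      · have e' : Commute (v : G) w := congrArg Subtype.val e
        apply Subtype.ext
        rcases hw with f | f | f
        · show (v : G) * a = a * v; rw [f] at e'; exact e'.eq
        · show (v : G) * a = a * v; rw [f] at e'; exact ((hcm v hv).1.2 e').eq
        · show (v : G) * a = a * v; rw [f] at e'; exact ((hcm v hv).2.2 e').eq
  have hba : bH ≠ aH := fun e => hab (by
    rw [show b = a from congrArg Subtype.val e])
  have hx : bH ∈ Cfsg.oddPartners DH aH :=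
    ⟨hb, hba, by rw [← Subgroup.orderOf_coe]; exact (h.pair a ha b hb hab) ▸ h.odd⟩
  have hS := Cfsg.Agent.S5051.result hodd (show aH ∈ DH from ha) hx
  have hX : Subgroup.closure (Cfsg.sameCommutingClass DH aH ∪ {bH}) = ⊤ := by
    refine top_le_iff.1 ?_
    rw [← Subgroup.closure_closure_coe_preimage (k := ({a, c, d, b} : Set G))]
    refine Subgroup.closure_mono ?_
    rintro w hw
    rcases hw with e | e | e | e
    · exact Or.inl (hE w (Or.inl e))
    · exact Or.inl (hE w (Or.inr (Or.inl e)))
    · exact Or.inl (hE w (Or.inr (Or.inr e)))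
    · exact Or.inr (Subtype.ext e)
  revert hS
  generalize hXd : Subgroup.closure (Cfsg.sameCommutingClass DH aH ∪ {bH}) = X
  intro hS
  have hXtop : X = ⊤ := hXd ▸ hX
  let ι : H →* X := (MonoidHom.id H).codRestrict X fun w => hXtop ▸ Subgroup.mem_top w
  let π : H →* (X ⧸ Cfsg.pCore 2 X) := (QuotientGroup.mk' _).comp ι
  have hπ : Function.Surjective π := fun q => by
    obtain ⟨w, rfl⟩ := QuotientGroup.mk'_surjective _ q
    exact ⟨(w : H), congrArg _ (Subtype.ext rfl)⟩
  -- the central involution dies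
  have hiK : π iH = 1 := by
    refine (QuotientGroup.eq_one_iff _).2 ?_
    set N := Subgroup.zpowers (ι iH)
    have hN : N.Normal := by
      refine ⟨fun n hn g => ?_⟩
      obtain ⟨k, rfl⟩ := Subgroup.mem_zpowers_iff.1 hn
      refine Subgroup.mem_zpowers_iff.2 ⟨k, ?_⟩
      have hcomm : Commute g (ι iH) :=
        Subtype.ext (Subtype.ext ((hci _ ((g : H)).2).symm.eq))
      rw [(hcomm.zpow_right k).eq, mul_inv_cancel_right]
    have hN2 : IsPGroup 2 N := by
      refine IsPGroup.of_card (n := (Nat.card N).log 2) ?_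
      have h2 : orderOf (ι iH) ∣ 2 :=
        orderOf_dvd_of_pow_eq_one (Subtype.ext (Subtype.ext (by
          show (iH : G) ^ 2 = 1
          rw [pow_two]; exact hi2)))
      rw [Nat.card_zpowers]
      rcases (Nat.dvd_prime Nat.prime_two).1 h2 with e | e <;> rw [e] <;> norm_num
    exact le_sSup (s := {N : Subgroup X | N.Normal ∧ IsPGroup 2 N}) ⟨hN, hN2⟩
      (Subgroup.mem_zpowers _)
  have hord_ab : ∀ {x y : H}, (x : G) ∈ D → (y : G) ∈ D → ¬ Commute (x : G) y →
      ¬ Commute (π x) (π y) := by
    intro x y hx hy hxy hc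
    have e2 : π ((x * y) ^ 2) = 1 := by
      rw [map_pow, map_mul, hc.mul_pow, pow_two, pow_two, ← map_mul, ← map_mul,
        show x * x = 1 from Subtype.ext (h.sq _ hx), show y * y = 1 from Subtype.ext (h.sq _ hy),
        map_one, one_mul]
    have hmem : ι ((x * y) ^ 2) ∈ Cfsg.pCore 2 X := (QuotientGroup.eq_one_iff _).1 e2
    obtain ⟨k, hk⟩ := (Cores.pCore_isPGroup (G := X) 2) ⟨_, hmem⟩
    have hk' : ((x : G) * y) ^ (2 * 2 ^ k) = 1 := by
      rw [pow_mul]
      have := congrArg (fun w => (((w : Cfsg.pCore 2 X) : X) : H)) hk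
      simpa [ι] using congrArg (Subtype.val : H → G) this
    have h1 := h.dvd_of_pow hx hy hxy hk'
    have h2 : p ∣ 2 := (Nat.Prime.dvd_mul h.prime).1 h1 |>.elim id fun h3 =>
      h.prime.dvd_of_dvd_pow h3
    have := Nat.le_of_dvd (by norm_num) h2
    omega
  have hsqπ : ∀ {x : H}, (x : G) ∈ D → π x * π x = 1 := fun {x} hx => by
    rw [← map_mul, show x * x = 1 from Subtype.ext (h.sq _ hx), map_one]
  have hA := hord_ab (x := aH) (y := bH) ha hb hab
  have hC := hord_ab (x := cH) (y := bH) hc hb hcb
  have hD := hord_ab (x := dH) (y := bH) hd hb hdb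
  have hdeq : π dH = π aH * π cH := by
    have e : π aH * π cH * π dH = 1 := by rw [← map_mul, ← map_mul]; exact hiK
    have h2 := hsqπ (x := dH) hd
    have h3 := congrArg (· * π dH) e
    simp only [mul_assoc, h2, mul_one, one_mul] at h3
    exact h3.symm
  have hπa2 : orderOf (π aH) = 2 := by
    refine orderOf_eq_prime (by rw [pow_two]; exact hsqπ (x := aH) ha) fun e => hA ?_
    rw [e]; exact Commute.one_left _
  -- orders of products of conjugates of the image of `a`
  have hconjord : ∀ g g' : X ⧸ Cfsg.pCore 2 X,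
      orderOf (g * π aH * g⁻¹ * (g' * π aH * g'⁻¹)) = 1 ∨
      orderOf (g * π aH * g⁻¹ * (g' * π aH * g'⁻¹)) = 2 ∨
      orderOf (g * π aH * g⁻¹ * (g' * π aH * g'⁻¹)) = p := by
    intro g g'
    obtain ⟨k, rfl⟩ := hπ g
    obtain ⟨l, rfl⟩ := hπ g'
    simp only [← map_inv, ← map_mul]
    have hk : ((k * aH * k⁻¹ : H) : G) ∈ D := h.conj (k : G) a ha
    have hl : ((l * aH * l⁻¹ : H) : G) ∈ D := h.conj (l : G) a ha
    have hdvd := orderOf_map_dvd π (k * aH * k⁻¹ * (l * aH * l⁻¹))
    rcases hpairH _ hk _ hl with e | e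
    · have e2 : orderOf (k * aH * k⁻¹ * (l * aH * l⁻¹)) ∣ 2 := orderOf_dvd_of_pow_eq_one (by
        rw [e.mul_pow, pow_two, pow_two,
          show (k * aH * k⁻¹) * (k * aH * k⁻¹) = 1 from Subtype.ext (h.sq _ hk),
          show (l * aH * l⁻¹) * (l * aH * l⁻¹) = 1 from Subtype.ext (h.sq _ hl), one_mul])
      rcases (Nat.dvd_prime Nat.prime_two).1 (hdvd.trans e2) with f | f
      · exact Or.inl f
      · exact Or.inr (Or.inl f)
    · rw [e] at hdvd
      rcases (Nat.dvd_prime h.prime).1 hdvd with f | f
      · exact Or.inl f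
      · exact Or.inr (Or.inr f)
  rcases hS with ⟨F, _, _, _, -, ⟨e⟩⟩ | hSz | ⟨n, ⟨e⟩⟩
  · have he1 : e (π aH) * e (π aH) = 1 := by rw [← map_mul, hsqπ (x := aH) ha, map_one]
    have he2 : e (π aH) ≠ 1 := fun f => by
      rw [MulEquiv.map_eq_one_iff] at f
      rw [f, orderOf_one] at hπa2
      omega
    obtain ⟨k, hk⟩ := Models.psl_order_three he1 he2
    obtain ⟨g, rfl⟩ := e.surjective k
    rw [← map_inv, ← map_mul, ← map_mul, ← map_mul, e.orderOf_eq] at hk
    have := hconjord 1 g
    rw [one_mul, inv_one, mul_one, hk] at this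
    omega
  · exact Models.isoSuzuki_false hSz h.five hπa2 hconjord
  · refine dihedral_false (A := e (π aH)) (C := e (π cH)) (B := e (π bH))
      (by rw [← map_mul, hsqπ (x := aH) ha, map_one]) (by rw [← map_mul, hsqπ (x := cH) hc, map_one])
      ?_ ?_ ?_ ?_
    · refine Commute.map ?_ e.toMonoidHom
      exact Commute.map (Subtype.ext hac.eq : Commute aH cH) π
    · exact fun f => hA (by simpa using f.map e.symm.toMonoidHom)
    · exact fun f => hC (by simpa using f.map e.symm.toMonoidHom)
    · intro f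
      apply hD
      rw [← map_mul, ← hdeq] at f
      simpa using f.map e.symm.toMonoidHom

/-- For commuting members `a`, `c` and `b` commuting with neither, `b` commutes with its image
under `a * c`. -/
theorem Hyp.type_four (h : Hyp p D) (ha : a ∈ D) (hc : c ∈ D) (hb : b ∈ D) (hac : Commute a c)
    (hne : a ≠ c) (hab : ¬ Commute a b) (hcb : ¬ Commute c b) :
    Commute b (a * c * b * (a * c)) := by
  by_contra hbt
  set t := a * c with ht
  have ht2 : t * t = 1 := by
    rw [← pow_two, ht, hac.mul_pow, pow_two, pow_two, h.sq a ha, h.sq c hc, one_mul]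
  have htinv : t⁻¹ = t := inv_eq_of_mul_eq_one_right ht2
  have hbD : t * b * t ∈ D := by
    have := h.conj t b hb
    rwa [htinv] at this
  have hw2 : orderOf ((t * b) ^ 2) = p := by
    rw [show (t * b) ^ 2 = t * b * t * b by rw [pow_two]; simp only [mul_assoc]]
    exact h.pair _ hbD b hb fun e => hbt e.symm
  obtain ⟨j, hj⟩ := h.odd
  set w := t * b with hw
  set i := w ^ p with hi
  have hi2 : i * i = 1 := by
    rw [← pow_two, hi, ← pow_mul, mul_comm, pow_mul, ← hw2, pow_orderOf_eq_one]
  have hiinv : i⁻¹ = i := inv_eq_of_mul_eq_one_right hi2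
  have hwb : b * w * b⁻¹ = w⁻¹ := by
    rw [hw, mul_inv_rev_inv ht2 (h.sq b hb), h.inv hb, mul_assoc, mul_assoc, h.sq b hb, mul_one]
  have hwt : t * w * t⁻¹ = w⁻¹ := by
    rw [hw, mul_inv_rev_inv ht2 (h.sq b hb), htinv, ← mul_assoc t t b, ht2, one_mul]
  have hib : Commute i b := by
    have e : b * i * b⁻¹ = i := by rw [hi, ← conj_pow, hwb, inv_pow, ← hi, hiinv]
    exact (mul_inv_eq_iff_eq_mul.1 e).symm
  have hit : Commute i t := by
    have e : t * i * t⁻¹ = i := by rw [hi, ← conj_pow, hwt, inv_pow, ← hi, hiinv]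
    exact (mul_inv_eq_iff_eq_mul.1 e).symm
  have hdD : t * i ∈ D := by
    have e : t * i = (w ^ j)⁻¹ * b * (w ^ j) := by
      have e1 : t * w = b := by rw [hw, ← mul_assoc, ht2, one_mul]
      have e2 : b * w ^ j = (w ^ j)⁻¹ * b := by
        rw [← inv_pow, ← hwb, conj_pow, inv_mul_cancel_right]
      rw [hi, hj, show 2 * j + 1 = 1 + (j + j) by omega, pow_add, pow_one, ← mul_assoc, e1, pow_add,
        ← mul_assoc, e2]
    rw [e]
    simpa using h.conj (w ^ j)⁻¹ b hb
  set d := t * i with hd
  have hdi : t = d * i := by rw [hd, mul_assoc, hi2, mul_one]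
  have htd : Commute t d := (Commute.refl t).mul_right hit.symm
  obtain ⟨had, hcd⟩ := h.fix ha hc hdD hac hne htd
  have hdb : ¬ Commute d b := by
    intro e
    have htb : Commute t b := hdi ▸ e.mul_left hib
    exact hab (h.fix ha hc hb hac hne htb).1
  have hie : i = a * c * d := by
    rw [← ht]; rw [hd, ← mul_assoc, ht2, one_mul]
  have hda : a ≠ d := by
    intro e
    have : i = c := by rw [hie, ← e, hac.eq, h.cancel' ha]
    exact hcb (this ▸ hib)
  have hdc : c ≠ d := by
    intro e
    have : i = a := by rw [hie, ← e, h.cancel' hc]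
    exact hab (this ▸ hib)
  exact h.no_triangle ha hc hdD hb hac had hcd hne hda hdc hab hcb hdb (hie ▸ hib)

end Cfsg.Agent.Lib.RankThreeInv22
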